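import Cfsg.Agent.Lib.Helper85.RankOneConj

set_option autoImplicit false

namespace Cfsg.Agent.Lib.Helper85

open Cfsg

variable {G : Type*} [Group G]

namespace Root

variable {S : Set (Subgroup G)}

theorem exists_partner {A : Subgroup G} (hAS : A ∈ S) (hA : ¬ IsIsolatedIn (FAdj S) S A) :
    ∃ B ∈ S, IsRankOnePair A B := by
  unfold IsIsolatedIn at hA
  push Not at hA
  obtain ⟨B, hB⟩ := hA hAS
  by_cases h1 : FAdj S A B
  · exact ⟨B, h1.2.1, h1.2.2⟩
  · have h2 := hB h1
    exact ⟨B, h2.1, RankOnePair_symm h2.2.2⟩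

theorem not_isolated {A B : Subgroup G} (hA : A ∈ S) (hB : B ∈ S) (h : IsRankOnePair A B) :
    ¬ IsIsolatedIn (FAdj S) S A := by
  intro hi
  exact (hi.2 B).1 ⟨hA, hB, h⟩

theorem comm_mem (hS : IsRootSubgroupSet S) {A : Subgroup G} (hA : A ∈ S) {x y : G}
    (hx : x ∈ A) (hy : y ∈ A) : x * y = y * x :=
  comm_of_isMulCommutative (hS.commutative A hA) hx hy

theorem commElem_mem {A B : Subgroup G} {a b : G} (ha : a ∈ A) (hb : b ∈ B) :
    a * b * a⁻¹ * b⁻¹ ∈ ⁅A, B⁆ := Subgroup.commutator_mem_commutator ha hb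

/-- If `(C, B)` is not a rank one pair, every conjugate of `B` under `C` centralizes `B`. -/
theorem conj_commutes (hS : IsRootSubgroupSet S) {C B : Subgroup G} (hC : C ∈ S) (hB : B ∈ S)
    (hn : ¬ IsRankOnePair C B) {x : G} (hx : x ∈ C) {b₁ b₂ : G} (h1 : b₁ ∈ B) (h2 : b₂ ∈ B) :
    (x * b₁ * x⁻¹) * b₂ = b₂ * (x * b₁ * x⁻¹) := by
  rcases hS.pair C hC B hB with h | h | h
  · have := commutator_eq_bot_iff.1 h x hx b₁ h1
    have e : x * b₁ * x⁻¹ = b₁ := by rw [this]; group
    rw [e]; exact comm_mem hS hB h1 h2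
  · exact absurd h hn
  · have hc := h.2.1 _ (commElem_mem hx h1) b₂ (Subgroup.mem_sup_right h2)
    have e : x * b₁ * x⁻¹ = (x * b₁ * x⁻¹ * b₁⁻¹) * b₁ := by group
    rw [e, mul_assoc, comm_mem hS hB h1 h2, ← mul_assoc, hc, mul_assoc]

theorem conj_le_normalizer (hS : IsRootSubgroupSet S) {C B : Subgroup G} (hC : C ∈ S)
    (hB : B ∈ S) (hn : ¬ IsRankOnePair C B) {x : G} (hx : x ∈ C) :
    conjBy B x ≤ Subgroup.normalizer (B : Set G) := by
  refine le_trans ?_ (Subgroup.centralizer_le_normalizer _)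
  intro y hy
  rw [mem_conjBy] at hy
  rw [Subgroup.mem_centralizer_iff]
  intro b hb
  have := conj_commutes hS hC hB hn hx hy hb
  have e : x * (x⁻¹ * y * x) * x⁻¹ = y := by group
  rw [e] at this
  exact this.symm

/-- trivial intersection: a member with a rank one partner meets other members trivially -/
theorem eq_of_mem_of_mem (hS : IsRootSubgroupSet S) {A B C : Subgroup G}
    (hB : B ∈ S) (hC : C ∈ S) (h : IsRankOnePair A B) {x : G} (hxA : x ∈ A) (hxC : x ∈ C)
    (hx1 : x ≠ 1) : A = C := by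
  have hCB : IsRankOnePair C B := by
    by_contra hn
    exact RankOne.conj_not_le_normalizer h hxA hx1 (conj_le_normalizer hS hC hB hn hxC)
  obtain ⟨b, hb, -, hAB⟩ := h.cond_left x hxA hx1
  obtain ⟨b', hb', -, hCB'⟩ := hCB.cond_left x hxC hx1
  have h1 : conjBy C b'⁻¹ = conjBy A b⁻¹ := hCB'.trans hAB.symm
  rw [conjBy_eq_iff, conjBy_conjBy, inv_inv] at h1
  by_cases hbb : b' * b⁻¹ = 1
  · rw [hbb, conjBy_one] at h1; exact h1.symm
  · exfalso
    have hmem : b' * b⁻¹ ∈ B := mul_mem hb' (inv_mem hb)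
    have hne : conjBy A (b' * b⁻¹) ≠ A := RankOne.conjBy_left_ne h hmem hbb
    have hbot := RankOne.inf_eq_bot_of_mem h (RankOne.left_mem_unipotent A B)
      (RankOne.conjBy_left_mem (A := A) (B := B) (Subgroup.mem_sup_right hmem)) hne.symm
    have : x ∈ A ⊓ conjBy A (b' * b⁻¹) := ⟨hxA, h1 ▸ hxC⟩
    rw [hbot] at this
    exact hx1 (by simpa using this)

theorem inf_eq_bot_or_eq (hS : IsRootSubgroupSet S) {A B C : Subgroup G}
    (hB : B ∈ S) (hC : C ∈ S) (h : IsRankOnePair A B) : A ⊓ C = ⊥ ∨ A = C := by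
  by_cases hbot : A ⊓ C = ⊥
  · exact Or.inl hbot
  · right
    obtain ⟨x, hx, hx1⟩ := exists_ne_one_of_ne_bot hbot
    exact eq_of_mem_of_mem hS hB hC h hx.1 hx.2 hx1

theorem conjBy_of_centralizes {U D : Subgroup G} {z : G}
    (hz : z ∈ Subgroup.centralizer (U : Set G)) (hD : D ≤ U) : conjBy D z = D :=
  conjBy_eq_self_iff.2 (Subgroup.centralizer_le_normalizer _
    (Subgroup.centralizer_le (by exact_mod_cast hD) hz))

/-- central translates of root elements are not root elements -/
theorem central_translate (hS : IsRootSubgroupSet S) {A B : Subgroup G} (hA : A ∈ S) (hB : B ∈ S)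
    (h : IsRankOnePair A B) {z : G} (hz : z ∈ Subgroup.centralizer ((A ⊔ B : Subgroup G) : Set G))
    (hz1 : z ≠ 1) {a : G} (ha : a ∈ A) (ha1 : a ≠ 1) : z * a ∉ rootElements S := by
  rintro ⟨-, C, hC, hxC⟩
  have hza : ∀ y ∈ A ⊔ B, y * z = z * y := fun y hy => Subgroup.mem_centralizer_iff.1 hz y hy
  have hconj : conjBy B (z * a) = conjBy B a := by
    rw [← hza a (Subgroup.mem_sup_left ha), ← conjBy_conjBy, conjBy_of_centralizes hz le_sup_right]
  have hconj' : conjBy B (z * a)⁻¹ = conjBy B a⁻¹ := by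
    rw [mul_inv_rev, ← conjBy_conjBy, conjBy_of_centralizes (inv_mem hz) le_sup_right]
  have hCB : IsRankOnePair C B := by
    by_contra hn
    have := conj_le_normalizer hS hC hB hn hxC
    rw [hconj] at this
    exact RankOne.conj_not_le_normalizer h ha ha1 this
  have hx1 : z * a ≠ 1 := by
    intro h1
    rw [h1, conjBy_one] at hconj
    have : conjBy B 1 = conjBy B a := by rw [conjBy_one]; exact hconj
    exact ha1 (RankOne.eq_of_conjBy_eq h (one_mem _) ha this).symm
  obtain ⟨b, hb, -, hAB⟩ := h.cond_left a ha ha1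
  obtain ⟨b', hb', -, hCB'⟩ := hCB.cond_left _ hxC hx1
  have h1 : conjBy C b'⁻¹ = conjBy A b⁻¹ := by rw [hCB', hconj', hAB]
  rw [conjBy_eq_iff, conjBy_conjBy, inv_inv] at h1
  have hmem : b' * b⁻¹ ∈ B := mul_mem hb' (inv_mem hb)
  by_cases hbb : b' * b⁻¹ = 1
  · rw [hbb, conjBy_one] at h1
    rw [h1] at hxC
    have hzA : z ∈ A := by
      have := mul_mem hxC (inv_mem ha)
      simpa using this
    apply hz1
    apply RankOne.eq_one_of_normalizes h hzA
    apply Subgroup.centralizer_le_normalizer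
    exact Subgroup.centralizer_le (by exact_mod_cast (le_sup_right : B ≤ A ⊔ B)) hz
  · have hne : conjBy A (b' * b⁻¹) ≠ A := RankOne.conjBy_left_ne h hmem hbb
    obtain ⟨α, hα, hCα⟩ := RankOne.exists_of_ne_left h
      (RankOne.conjBy_left_mem (A := A) (B := B) (Subgroup.mem_sup_right hmem)) hne
    rw [h1, hCα, mem_conjBy] at hxC
    have e : α⁻¹ * (z * a) * α = z * a := by
      have e1 : a * α = α * a := comm_mem hS hA ha hα
      have e2 : α * z = z * α := hza α (Subgroup.mem_sup_left hα)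
      calc α⁻¹ * (z * a) * α = α⁻¹ * z * (a * α) := by group
        _ = α⁻¹ * (z * α) * a := by rw [e1]; group
        _ = z * a := by rw [← e2]; group
    rw [e] at hxC
    apply ha1
    apply RankOne.eq_one_of_normalizes h ha
    have hzN : z ∈ Subgroup.normalizer (B : Set G) := by
      apply Subgroup.centralizer_le_normalizer
      exact Subgroup.centralizer_le (by exact_mod_cast (le_sup_right : B ≤ A ⊔ B)) hz
    have := mul_mem (inv_mem hzN) (Subgroup.le_normalizer hxC)
    simpa using this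

theorem mem_center_of_commutes (hS : IsRootSubgroupSet S) {z : G}
    (h : ∀ A ∈ S, ∀ a ∈ A, z * a = a * z) : z ∈ Subgroup.center G := by
  have h1 : (⨆ A ∈ S, A) ≤ Subgroup.centralizer ({z} : Set G) := by
    refine iSup₂_le fun A hA a ha => ?_
    rw [Subgroup.mem_centralizer_iff]
    intro y hy
    rw [Set.mem_singleton_iff] at hy
    rw [hy]; exact h A hA a ha
  rw [hS.generates] at h1
  rw [Subgroup.mem_center_iff]
  intro g
  have := Subgroup.mem_centralizer_iff.1 (h1 (Subgroup.mem_top g)) z rfl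
  exact this.symm

open scoped commutatorElement in
theorem upperCentralSeries_two (hS : IsRootSubgroupSet S)
    (hF : ∀ A ∈ S, ∃ B ∈ S, IsRankOnePair A B) :
    Subgroup.upperCentralSeries G 2 = Subgroup.center G := by
  apply le_antisymm
  · intro z hz
    apply mem_center_of_commutes hS
    intro A hA a ha
    by_cases ha1 : a = 1
    · rw [ha1]; simp
    obtain ⟨B, hB, h⟩ := hF A hA
    have hζ : ⁅z, a⁆ ∈ Subgroup.center G := by
      have := Subgroup.mem_upperCentralSeries_succ_iff.1 hz a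
      rwa [Subgroup.upperCentralSeries_one] at this
    by_contra hne
    have hζ1 : ⁅z, a⁆ ≠ 1 := by
      intro h1
      apply hne
      rw [commutatorElement_def] at h1
      have : z * a = (z * a * z⁻¹ * a⁻¹) * (a * z) := by group
      rw [this, h1, one_mul]
    have hcen : ⁅z, a⁆ ∈ Subgroup.centralizer ((A ⊔ B : Subgroup G) : Set G) :=
      Subgroup.center_le_centralizer _ hζ
    apply central_translate hS hA hB h hcen hζ1 ha ha1
    have e : ⁅z, a⁆ * a = z * a * z⁻¹ := by rw [commutatorElement_def]; group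
    rw [e]
    refine ⟨?_, conjBy A z, hS.conj_mem A hA z, conj_mem_conjBy ha z⟩
    intro h1
    apply ha1
    have : a = z⁻¹ * (z * a * z⁻¹) * z := by group
    rw [this, h1]; group
  · rw [← Subgroup.upperCentralSeries_one]
    exact Subgroup.upperCentralSeries_mono G (by norm_num)

theorem le_centralizer_zpowers_iff {C : Subgroup G} {g : G} :
    C ≤ Subgroup.centralizer (Subgroup.zpowers g : Set G) ↔ ∀ c ∈ C, c * g = g * c := by
  constructor
  · intro h c hc
    exact (Subgroup.mem_centralizer_iff.1 (h hc) g (Subgroup.mem_zpowers g)).symm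
  · intro h c hc
    rw [Subgroup.mem_centralizer_iff]
    rintro _ ⟨n, rfl⟩
    have : Commute c g := h c hc
    exact (this.zpow_right n).eq.symm

/-- commuting nontrivial elements of the two members of a rank one pair do not exist -/
theorem RankOne_not_commute {A B : Subgroup G} (h : IsRankOnePair A B) {a b : G} (ha : a ∈ A)
    (ha1 : a ≠ 1) (hb : b ∈ B) (hb1 : b ≠ 1) : a * b ≠ b * a := by
  intro hab
  have hne : conjBy B a ≠ B := RankOne.conjBy_left_ne (RankOnePair_symm h) ha ha1
  have hbot := RankOne.inf_eq_bot_of_mem h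
    (RankOne.conjBy_mem_unipotent (RankOne.right_mem_unipotent h) (Subgroup.mem_sup_left ha))
    (RankOne.right_mem_unipotent h) hne
  have hmem : b ∈ conjBy B a ⊓ B := by
    refine Subgroup.mem_inf.2 ⟨?_, hb⟩
    rw [mem_conjBy]
    have : a⁻¹ * b * a = b := by rw [mul_assoc, ← hab]; group
    rw [this]; exact hb
  rw [hbot] at hmem
  exact hb1 (by simpa using hmem)

theorem centralizing_product (hS : IsRootSubgroupSet S) (hdeg : IsDegenerateRootSet S)
    {a b : G} (ha : a ∈ rootElements S) (hb : b ∈ rootElements S) (hab : a * b = b * a)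
    (hab1 : a * b ≠ 1) {C : Subgroup G} (hC : C ∈ S) (hcen : ∀ c ∈ C, c * (a * b) = (a * b) * c) :
    ∀ c ∈ C, c * a = a * c := by
  obtain ⟨ha1, A', hA', haA⟩ := ha
  obtain ⟨hb1, B', hB', hbB⟩ := hb
  by_contra hcon
  push Not at hcon
  obtain ⟨c0, hc0, hne0⟩ := hcon
  have h1 : IsRankOnePair A' C := by
    rcases hS.pair A' hA' C hC with h | h | h
    · exact absurd (commutator_eq_bot_iff.1 h a haA c0 hc0).symm hne0
    · exact h
    · exact absurd h (hdeg A' hA' C hC)
  have hCab : conjBy C (a * b) = C := by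
    apply conjBy_of_centralizes (U := C) _ le_rfl
    rw [Subgroup.mem_centralizer_iff]
    exact hcen
  have hCb : conjBy C b = conjBy C a⁻¹ := by
    rw [← conjBy_conjBy, conjBy_eq_iff] at hCab
    exact hCab
  have hCa : conjBy C a⁻¹ ≠ C :=
    RankOne.conjBy_left_ne (RankOnePair_symm h1) (inv_mem haA) (by simpa using ha1)
  have h2 : IsRankOnePair B' C := by
    rcases hS.pair B' hB' C hC with h | h | h
    · exfalso
      apply hCa
      rw [← hCb]
      apply conjBy_of_centralizes (U := C) _ le_rfl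
      rw [Subgroup.mem_centralizer_iff]
      intro c hc
      exact (commutator_eq_bot_iff.1 h b hbB c hc).symm
    · exact h
    · exact absurd h (hdeg B' hB' C hC)
  obtain ⟨c, hc, -, hAc⟩ := h1.cond_left a haA ha1
  obtain ⟨c', hc', -, hBc⟩ := h2.cond_left b⁻¹ (inv_mem hbB) (by simpa using hb1)
  rw [inv_inv, hCb, ← hAc, conjBy_eq_iff, conjBy_conjBy, inv_inv] at hBc
  have hmem : c' * c⁻¹ ∈ C := mul_mem hc' (inv_mem hc)
  by_cases hcc : c' * c⁻¹ = 1
  · rw [hcc, conjBy_one] at hBc
    rw [hBc] at hbB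
    apply hab1
    exact RankOne.eq_one_of_normalizes h1 (mul_mem haA hbB) (conjBy_eq_self_iff.1 hCab)
  · have hne : conjBy A' (c' * c⁻¹) ≠ A' := RankOne.conjBy_left_ne h1 hmem hcc
    have hpair := (RankOne.pair_of_mem h1 (RankOne.left_mem_unipotent A' C)
      (RankOne.conjBy_left_mem (A := A') (B := C) (Subgroup.mem_sup_right hmem)) hne.symm).1
    rw [← hBc] at hpair
    exact RankOne_not_commute hpair haA ha1 hbB hb1 hab

/-- a member of `S` with a partner, both inside a rank one group `⟨C, D⟩`, is unipotent there -/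
theorem mem_unipotent_of_le (hS : IsRootSubgroupSet S) {A B C D : Subgroup G} (hA : A ∈ S)
    (hC : C ∈ S) (hAB : IsRankOnePair A B) (hCD : IsRankOnePair C D)
    (hle : A ⊔ B ≤ C ⊔ D) : A ∈ unipotentSubgroups C D := by
  by_contra hnot
  have hAY : A ≤ C ⊔ D := le_sup_left.trans hle
  have hmemS : ∀ E ∈ unipotentSubgroups C D, E ∈ S := by
    rintro E ⟨y, -, rfl⟩
    exact hS.conj_mem C hC y
  have hleY : ∀ E ∈ unipotentSubgroups C D, E ≤ C ⊔ D := by
    rintro E ⟨y, hy, rfl⟩
    exact conjBy_le_of_mem le_sup_left hy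
  have hcomm : ∀ E ∈ unipotentSubgroups C D, ⁅A, E⁆ = ⊥ := by
    intro E hE
    have hnr : ¬ IsRankOnePair A E := by
      intro hr
      obtain ⟨a, ha, ha1⟩ := RankOne.exists_ne_one_left hr
      obtain ⟨e, he, -, hAE⟩ := hr.cond_left a ha ha1
      rw [conjBy_eq_iff, conjBy_conjBy, inv_inv] at hAE
      apply hnot
      rw [hAE]
      exact RankOne.conjBy_mem_unipotent hE (mul_mem (hleY E hE he) (inv_mem (hAY ha)))
    rcases hS.pair A hA E (hmemS E hE) with h | h | h
    · exact h
    · exact absurd h hnr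
    · exfalso
      have hnorm : ∀ a ∈ A, conjBy E a = E := by
        intro a ha
        by_contra hne
        have hEa : conjBy E a ∈ unipotentSubgroups C D := RankOne.conjBy_mem_unipotent hE (hAY ha)
        have hp := (RankOne.pair_of_mem hCD hE hEa (Ne.symm hne)).1
        exact RankOne.not_right_le_normalizer hp (conj_le_normalizer hS hA (hmemS E hE) hnr ha)
      have hFE : ⁅A, E⁆ ≤ E := by
        rw [Subgroup.commutator_le]
        intro a ha e he
        have h1 : a * e * a⁻¹ ∈ conjBy E a := conj_mem_conjBy he a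
        rw [hnorm a ha] at h1
        exact mul_mem h1 (inv_mem he)
      -- a partner of E
      obtain ⟨E', hE', hEE'⟩ : ∃ E' ∈ unipotentSubgroups C D, E ≠ E' := by
        by_cases hEC : E = C
        · exact ⟨D, RankOne.right_mem_unipotent hCD, hEC ▸ hCD.ne⟩
        · exact ⟨C, RankOne.left_mem_unipotent C D, hEC⟩
      have hp := (RankOne.pair_of_mem hCD hE hE' hEE').1
      obtain ⟨x, hx, hx1⟩ := exists_ne_one_of_ne_bot (hS.ne_bot _ h.1)
      have hEF : E = ⁅A, E⁆ := eq_of_mem_of_mem hS (hmemS E' hE') h.1 hp (hFE hx) hx hx1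
      apply hS.ne_bot _ h.1
      rw [commutator_eq_bot_iff]
      intro a ha e he
      rw [hEF] at he
      exact (h.2.1 e he a (Subgroup.mem_sup_left ha)).symm
  have h1 := commutator_eq_bot_iff.1 (hcomm C (RankOne.left_mem_unipotent C D))
  have h2 := commutator_eq_bot_iff.1 (hcomm D (RankOne.right_mem_unipotent hCD))
  apply RankOne.commutator_ne_bot hAB
  rw [commutator_eq_bot_iff]
  intro a ha b hb
  exact RankOne.commute_sup_of (h1 a ha) (h2 a ha) b (hle (Subgroup.mem_sup_right hb))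

theorem containment (hS : IsRootSubgroupSet S) {A B C D : Subgroup G} (hA : A ∈ S) (hB : B ∈ S)
    (hC : C ∈ S) (hAB : IsRankOnePair A B) (hCD : IsRankOnePair C D)
    (hle : A ⊔ B ≤ C ⊔ D) :
    A ⊔ B = C ⊔ D ∧ C ∈ unipotentSubgroups A B ∧ D ∈ unipotentSubgroups A B := by
  have h1 := mem_unipotent_of_le hS hA hC hAB hCD hle
  have h2 := mem_unipotent_of_le hS hB hC (RankOnePair_symm hAB) hCD (by rwa [sup_comm])
  have h3 := (RankOne.pair_of_mem hCD h1 h2 hAB.ne).2
  refine ⟨h3, ?_, ?_⟩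
  · obtain ⟨y, hy, hAy⟩ := h1
    refine ⟨y⁻¹, by rw [h3]; exact inv_mem hy, ?_⟩
    rw [hAy, conjBy_conjBy, inv_mul_cancel, conjBy_one]
  · obtain ⟨y, hy, hAy⟩ := h1
    obtain ⟨y', hy', hDy⟩ := RankOne.right_mem_unipotent hCD
    refine ⟨y' * y⁻¹, by rw [h3]; exact mul_mem hy' (inv_mem hy), ?_⟩
    rw [hAy, conjBy_conjBy, hDy, inv_mul_cancel_right]

end Root

end Cfsg.Agent.Lib.Helper85
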