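import Cfsg.Agent.Lib.Helper85.RootComm

set_option autoImplicit false

namespace Cfsg.Agent.Lib.Helper85

open Cfsg

variable {G H : Type*} [Group G] [Group H]

theorem map_conjBy (f : G →* H) (A : Subgroup G) (g : G) :
    (conjBy A g).map f = conjBy (A.map f) (f g) := by
  ext y
  rw [mem_conjBy]
  constructor
  · rintro ⟨x, hx, rfl⟩
    rw [SetLike.mem_coe, mem_conjBy] at hx
    exact ⟨_, hx, by simp⟩
  · rintro ⟨x, hx, hxy⟩
    refine ⟨g * x * g⁻¹, conj_mem_conjBy hx g, ?_⟩
    rw [map_mul, map_mul, hxy, map_inv]; group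

theorem isNilpotent_map (f : G →* H) {A : Subgroup G} (h : Group.IsNilpotent A) :
    Group.IsNilpotent (A.map f) :=
  Group.nilpotent_of_surjective (f.subgroupMap A) (f.subgroupMap_surjective A)

theorem isMulCommutative_map (f : G →* H) {A : Subgroup G} (h : IsMulCommutative A) :
    IsMulCommutative (A.map f) := by
  refine ⟨⟨?_⟩⟩
  rintro ⟨_, x, hx, rfl⟩ ⟨_, y, hy, rfl⟩
  apply Subtype.ext
  change f x * f y = f y * f x
  rw [← map_mul, ← map_mul, comm_of_isMulCommutative h hx hy]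

theorem rankOneCondition_map (f : G →* H) {A B : Subgroup G} (h : RankOneCondition A B)
    (hne : A.map f ≠ B.map f) : RankOneCondition (A.map f) (B.map f) := by
  rintro _ ⟨a, ha, rfl⟩ ha1
  have ha1' : a ≠ 1 := by
    rintro rfl
    exact ha1 (map_one f)
  obtain ⟨b, hb, -, hAB⟩ := h a ha ha1'
  have hAB' : conjBy (A.map f) (f b)⁻¹ = conjBy (B.map f) (f a)⁻¹ := by
    rw [← map_inv, ← map_inv, ← map_conjBy, ← map_conjBy, hAB]
  refine ⟨f b, ⟨b, hb, rfl⟩, ?_, hAB'⟩
  intro hb1
  apply hne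
  rw [hb1, inv_one, conjBy_one] at hAB'
  have h1 : conjBy (A.map f) (f a) = A.map f := conjBy_of_mem ⟨a, ha, rfl⟩
  rw [← h1, hAB', conjBy_conjBy, mul_inv_cancel, conjBy_one]

theorem RankOne.map (f : G →* H) {A B : Subgroup G} (h : IsRankOnePair A B)
    (hne : A.map f ≠ B.map f) : IsRankOnePair (A.map f) (B.map f) :=
  ⟨hne, isNilpotent_map f h.nilpotent_left, isNilpotent_map f h.nilpotent_right,
    rankOneCondition_map f h.cond_left hne, rankOneCondition_map f h.cond_right hne.symm⟩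

theorem rankOneCondition_of_map {f : G →* H} (hf : Function.Injective f) {A B : Subgroup G}
    (h : RankOneCondition (A.map f) (B.map f)) : RankOneCondition A B := by
  intro a ha ha1
  obtain ⟨_, ⟨b, hb, rfl⟩, hb1, hAB⟩ := h (f a) ⟨a, ha, rfl⟩ (by
    intro h1
    exact ha1 (hf (h1.trans (map_one f).symm)))
  refine ⟨b, hb, ?_, ?_⟩
  · rintro rfl
    exact hb1 (map_one f)
  · rw [← map_inv, ← map_inv, ← map_conjBy, ← map_conjBy] at hAB
    exact Subgroup.map_injective hf hAB

theorem RankOne.of_map {f : G →* H} (hf : Function.Injective f) {A B : Subgroup G}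
    (h : IsRankOnePair (A.map f) (B.map f)) : IsRankOnePair A B :=
  ⟨fun he => h.ne (by rw [he]),
    @Group.nilpotent_of_mulEquiv _ _ _ _ h.nilpotent_left (A.equivMapOfInjective f hf).symm,
    @Group.nilpotent_of_mulEquiv _ _ _ _ h.nilpotent_right (B.equivMapOfInjective f hf).symm,
    rankOneCondition_of_map hf h.cond_left, rankOneCondition_of_map hf h.cond_right⟩

theorem Special.map_of_injective {f : G →* H} (hf : Function.Injective f) {A B : Subgroup G}
    (h : IsSpecialRankOnePair A B) : IsSpecialRankOnePair (A.map f) (B.map f) := by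
  refine ⟨RankOne.map f h.1 (fun he => h.1.ne (Subgroup.map_injective hf he)), ?_⟩
  rintro _ ⟨a, ha, rfl⟩ ha1 _ ⟨b, hb, rfl⟩ hb1 hAB
  rw [← map_inv, ← map_inv, ← map_conjBy, ← map_conjBy] at hAB
  have := h.2 a ha (by rintro rfl; exact ha1 (map_one f)) b hb
    (by rintro rfl; exact hb1 (map_one f)) (Subgroup.map_injective hf hAB)
  have h2 := congrArg f this
  simpa using h2

/-- the rank one group generated by a rank one pair, as a type -/
theorem RankOne.isRankOneGroup_subgroupOf {A B : Subgroup G} (h : IsRankOnePair A B) :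
    IsRankOneGroup ↥(A ⊔ B) (A.subgroupOf (A ⊔ B)) (B.subgroupOf (A ⊔ B)) := by
  have hA : (A.subgroupOf (A ⊔ B)).map (A ⊔ B).subtype = A :=
    Subgroup.map_subgroupOf_eq_of_le le_sup_left
  have hB : (B.subgroupOf (A ⊔ B)).map (A ⊔ B).subtype = B :=
    Subgroup.map_subgroupOf_eq_of_le le_sup_right
  constructor
  · apply Subgroup.map_injective (A ⊔ B).subtype_injective
    rw [Subgroup.map_sup, hA, hB, ← MonoidHom.range_eq_map, Subgroup.range_subtype]
  · apply RankOne.of_map (A ⊔ B).subtype_injective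
    rw [hA, hB]; exact h

theorem Special.of_subgroupOf {A B : Subgroup G}
    (h : IsSpecialRankOnePair (A.subgroupOf (A ⊔ B)) (B.subgroupOf (A ⊔ B))) :
    IsSpecialRankOnePair A B := by
  have hA : (A.subgroupOf (A ⊔ B)).map (A ⊔ B).subtype = A :=
    Subgroup.map_subgroupOf_eq_of_le le_sup_left
  have hB : (B.subgroupOf (A ⊔ B)).map (A ⊔ B).subtype = B :=
    Subgroup.map_subgroupOf_eq_of_le le_sup_right
  have := Special.map_of_injective (A ⊔ B).subtype_injective h
  rwa [hA, hB] at this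

namespace Root

variable {S : Set (Subgroup G)}

theorem commutatorCase_map (f : G →* H) {A B : Subgroup G} (hc : RootCommutatorCase S A B) :
    RootCommutatorCase ((fun A : Subgroup G => A.map f) '' S) (A.map f) (B.map f) := by
  have hcomm : ⁅A.map f, B.map f⁆ = (⁅A, B⁆).map f := (Subgroup.map_commutator A B f).symm
  refine ⟨⟨_, hc.1, hcomm.symm⟩, ?_, ?_, ?_⟩
  · rw [hcomm, ← Subgroup.map_sup]
    rintro _ ⟨c, hc', rfl⟩ _ ⟨x, hx, rfl⟩
    rw [← map_mul, ← map_mul, hc.2.1 c hc' x hx]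
  · rintro _ ⟨a, ha, rfl⟩ ha1
    rw [hcomm, ← hc.2.2.1 a ha (by rintro rfl; exact ha1 (map_one f)), MonoidHom.map_closure]
    congr 1
    ext y
    constructor
    · rintro ⟨_, ⟨b, hb, rfl⟩, rfl⟩
      exact ⟨_, ⟨b, hb, rfl⟩, by simp⟩
    · rintro ⟨_, ⟨b, hb, rfl⟩, rfl⟩
      exact ⟨f b, ⟨b, hb, rfl⟩, by simp⟩
  · rintro _ ⟨b, hb, rfl⟩ hb1
    rw [hcomm, ← hc.2.2.2 b hb (by rintro rfl; exact hb1 (map_one f)), MonoidHom.map_closure]
    congr 1
    ext y
    constructor
    · rintro ⟨_, ⟨a, ha, rfl⟩, rfl⟩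
      exact ⟨_, ⟨a, ha, rfl⟩, by simp⟩
    · rintro ⟨_, ⟨a, ha, rfl⟩, rfl⟩
      exact ⟨f a, ⟨a, ha, rfl⟩, by simp⟩

theorem isRootSubgroupSet_map (hS : IsRootSubgroupSet S) (f : G →* H)
    (hf : Function.Surjective f) (hne : ∀ A ∈ S, A.map f ≠ ⊥) :
    IsRootSubgroupSet ((fun A : Subgroup G => A.map f) '' S) := by
  refine ⟨?_, ?_, ?_, ?_, ?_⟩
  · rintro _ ⟨A, hA, rfl⟩
    exact isMulCommutative_map f (hS.commutative A hA)
  · rintro _ ⟨A, hA, rfl⟩
    exact hne A hA
  · rw [iSup_image]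
    have := congrArg (Subgroup.map f) hS.generates
    rw [Subgroup.map_iSup, Subgroup.map_top_of_surjective f hf] at this
    rw [← this]
    congr 1
    ext A : 1
    rw [Subgroup.map_iSup]
  · rintro _ ⟨A, hA, rfl⟩ h
    obtain ⟨g, rfl⟩ := hf h
    exact ⟨_, hS.conj_mem A hA g, map_conjBy f A g⟩
  · rintro _ ⟨A, hA, rfl⟩ _ ⟨B, hB, rfl⟩
    rcases hS.pair A hA B hB with h | h | h
    · left
      change ⁅A.map f, B.map f⁆ = ⊥
      rw [← Subgroup.map_commutator, h, Subgroup.map_bot]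
    · by_cases he : A.map f = B.map f
      · left
        change ⁅A.map f, B.map f⁆ = ⊥
        rw [he, commutator_eq_bot_iff]
        intro x hx y hy
        exact comm_of_isMulCommutative (isMulCommutative_map f (hS.commutative B hB)) hx hy
      · right; left
        exact RankOne.map f h he
    · right; right
      exact commutatorCase_map f h

end Root

end Cfsg.Agent.Lib.Helper85
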