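import Cfsg.Agent.Lib.Helper85.St2Rel
import Cfsg.Agent.S2426

set_option autoImplicit false

namespace Cfsg.Agent.Lib.Helper85

namespace St2

open Matrix

variable {K : Type*} {G : Type*} [Field K] [Group G] (D : St2 K G)

theorem rel' {t : K} (ht : t ≠ 0) (u : K) :
    (D.y t * D.x (-t⁻¹) * D.y t) * D.y u * (D.y t * D.x (-t⁻¹) * D.y t)⁻¹ = D.x (-(t⁻¹ ^ 2 * u)) := by
  have hs : -t⁻¹ ≠ 0 := neg_ne_zero.2 (inv_ne_zero ht)
  have h1 := D.w_eq hs
  have e : -(-t⁻¹)⁻¹ = t := by rw [inv_neg, inv_inv, neg_neg]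
  rw [e] at h1
  rw [← h1, D.conj_y hs]
  congr 1
  ring

/-- Steinberg data over a finite field come from a homomorphism of `SL₂(K)`. -/
theorem exists_hom [Finite K] : ∃ φ : SpecialLinearGroup (Fin 2) K →* G,
    (∀ t, φ (SL2.up t) = D.x t) ∧ (∀ t, φ (SL2.lo t) = D.y t) := by
  classical
  obtain ⟨e, he1, he2⟩ := Cfsg.Agent.S2426.result (K := K)
  let f : Bool × K → G := fun p => if p.1 then D.x p.2 else D.y p.2
  have hrel : ∀ r ∈ ({g : FreeGroup (Bool × K) | ∃ (b : Bool) (t u : K), g = FreeGroup.of (b, t) * FreeGroup.of (b, u) * (FreeGroup.of (b, t + u))⁻¹} ∪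
          {g | ∃ (b : Bool) (t u : K), t ≠ 0 ∧
            g = (FreeGroup.of (b, t) * FreeGroup.of (!b, -t⁻¹) * FreeGroup.of (b, t)) * FreeGroup.of (b, u) *
                  (FreeGroup.of (b, t) * FreeGroup.of (!b, -t⁻¹) * FreeGroup.of (b, t))⁻¹ * (FreeGroup.of (!b, -(t⁻¹ ^ 2 * u)))⁻¹}),
      FreeGroup.lift f r = 1 := by
    intro r hr
    rcases hr with ⟨b, t, u, rfl⟩ | ⟨b, t, u, ht, rfl⟩
    · cases b
      · simp [f, D.y_add]
      · simp [f, D.x_add]
    · cases b
      · have := D.rel' ht u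
        simp only [map_mul, map_inv, FreeGroup.lift_apply_of, f, Bool.not_false, if_true,
          Bool.false_eq_true, if_false]
        rw [this, mul_inv_cancel]
      · have := D.rel t u ht
        simp only [map_mul, map_inv, FreeGroup.lift_apply_of, f, Bool.not_true, if_true,
          Bool.false_eq_true, if_false]
        rw [this, mul_inv_cancel]
  refine ⟨(PresentedGroup.toGroup hrel).comp e.symm.toMonoidHom, ?_, ?_⟩
  · intro t
    have h1 : e (PresentedGroup.of (true, t)) = SL2.up t := Subtype.ext (he1 t)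
    have h2 : e.symm (SL2.up t) = PresentedGroup.of (true, t) := by rw [← h1, e.symm_apply_apply]
    show PresentedGroup.toGroup hrel (e.symm (SL2.up t)) = _
    rw [h2, PresentedGroup.toGroup.of]
    simp [f]
  · intro t
    have h1 : e (PresentedGroup.of (false, t)) = SL2.lo t := Subtype.ext (he2 t)
    have h2 : e.symm (SL2.lo t) = PresentedGroup.of (false, t) := by rw [← h1, e.symm_apply_apply]
    show PresentedGroup.toGroup hrel (e.symm (SL2.lo t)) = _
    rw [h2, PresentedGroup.toGroup.of]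
    simp [f]

end St2

end Cfsg.Agent.Lib.Helper85
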