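import Mathlib
import Cfsg.Prelude.Def_RootSubgroups

set_option autoImplicit false

namespace Cfsg.Agent.Lib.Helper85

open Cfsg

variable {G : Type*} [Group G]

theorem mem_conjBy {A : Subgroup G} {g x : G} : x ∈ conjBy A g ↔ g⁻¹ * x * g ∈ A := by
  constructor
  · rintro ⟨y, hy, rfl⟩
    simpa [MulAut.conj_apply, mul_assoc] using hy
  · intro h
    exact ⟨g⁻¹ * x * g, h, by simp [MulAut.conj_apply, mul_assoc]⟩

theorem conj_mem_conjBy {A : Subgroup G} {a : G} (ha : a ∈ A) (g : G) :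
    g * a * g⁻¹ ∈ conjBy A g := by
  rw [mem_conjBy]; simpa [mul_assoc] using ha

theorem conjBy_one (A : Subgroup G) : conjBy A 1 = A := by
  ext x; simp

theorem conjBy_conjBy (A : Subgroup G) (g h : G) : conjBy (conjBy A g) h = conjBy A (h * g) := by
  ext x; simp [mul_assoc]

theorem conjBy_eq_iff {A B : Subgroup G} {g : G} : conjBy A g = B ↔ A = conjBy B g⁻¹ := by
  constructor
  · rintro rfl; rw [conjBy_conjBy]; simp [conjBy_one]
  · intro h; rw [h, conjBy_conjBy]; simp [conjBy_one]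

theorem conjBy_injective (g : G) : Function.Injective (fun A : Subgroup G => conjBy A g) := by
  intro A B h
  have h' : conjBy A g = conjBy B g := h
  rw [conjBy_eq_iff, conjBy_conjBy] at h'
  simpa [conjBy_one] using h'

theorem conjBy_inj {A B : Subgroup G} {g : G} : conjBy A g = conjBy B g ↔ A = B :=
  (conjBy_injective g).eq_iff

theorem conjBy_eq_self_iff {A : Subgroup G} {g : G} :
    conjBy A g = A ↔ g ∈ Subgroup.normalizer (A : Set G) :=
  Subgroup.mem_normalizer_iff_map_conj_eq.symm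

theorem conjBy_of_mem {A : Subgroup G} {g : G} (hg : g ∈ A) : conjBy A g = A :=
  conjBy_eq_self_iff.2 (Subgroup.le_normalizer hg)

theorem conjBy_eq_conjBy_iff {A : Subgroup G} {g h : G} :
    conjBy A g = conjBy A h ↔ h⁻¹ * g ∈ Subgroup.normalizer (A : Set G) := by
  rw [conjBy_eq_iff, conjBy_conjBy, eq_comm, conjBy_eq_self_iff]
  constructor
  · intro h1; simpa using inv_mem h1
  · intro h1; simpa using inv_mem h1

theorem conjBy_mono {A B : Subgroup G} (h : A ≤ B) (g : G) : conjBy A g ≤ conjBy B g :=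
  Subgroup.map_mono h

theorem conjBy_le_of_mem {A U : Subgroup G} {g : G} (hA : A ≤ U) (hg : g ∈ U) :
    conjBy A g ≤ U := by
  intro x hx
  rw [mem_conjBy] at hx
  have := U.mul_mem (U.mul_mem hg (hA hx)) (U.inv_mem hg)
  simpa [mul_assoc] using this

theorem conjBy_sup (A B : Subgroup G) (g : G) : conjBy (A ⊔ B) g = conjBy A g ⊔ conjBy B g :=
  Subgroup.map_sup A B _

theorem conjBy_bot (g : G) : conjBy (⊥ : Subgroup G) g = ⊥ := Subgroup.map_bot _

theorem conjBy_eq_bot_iff {A : Subgroup G} {g : G} : conjBy A g = ⊥ ↔ A = ⊥ := by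
  rw [conjBy_eq_iff, conjBy_bot]

theorem exists_ne_one_of_ne_bot {A : Subgroup G} (h : A ≠ ⊥) : ∃ a ∈ A, a ≠ 1 := by
  obtain ⟨a, ha⟩ := Subgroup.ne_bot_iff_exists_ne_one.1 h
  exact ⟨a, a.2, fun h' => ha (Subtype.ext h')⟩

namespace RankOne

variable {A B : Subgroup G}

theorem inf_normalizer (h : IsRankOnePair A B) : A ⊓ Subgroup.normalizer (B : Set G) = ⊥ := by
  rw [eq_bot_iff]
  rintro a ⟨haA, haN⟩
  by_contra ha1
  have ha1' : a ≠ 1 := fun h' => ha1 (by simpa using h')
  obtain ⟨b, hb, -, hAB⟩ := h.cond_left a haA ha1'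
  have h1 : conjBy B a⁻¹ = B := conjBy_eq_self_iff.2 (inv_mem haN)
  rw [h1, conjBy_eq_iff, conjBy_of_mem (by simpa using hb)] at hAB
  exact h.ne hAB

theorem inf_normalizer' (h : IsRankOnePair A B) : B ⊓ Subgroup.normalizer (A : Set G) = ⊥ :=
  inf_normalizer (RankOnePair_symm h)

theorem eq_one_of_normalizes (h : IsRankOnePair A B) {a : G} (ha : a ∈ A)
    (hn : a ∈ Subgroup.normalizer (B : Set G)) : a = 1 := by
  have : a ∈ A ⊓ Subgroup.normalizer (B : Set G) := ⟨ha, hn⟩
  rw [inf_normalizer h] at this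
  simpa using this

theorem eq_of_conjBy_eq (h : IsRankOnePair A B) {a a' : G} (ha : a ∈ A) (ha' : a' ∈ A)
    (he : conjBy B a = conjBy B a') : a = a' := by
  rw [conjBy_eq_conjBy_iff] at he
  have := eq_one_of_normalizes h (A.mul_mem (A.inv_mem ha') ha) he
  exact (inv_mul_eq_one.1 this).symm

theorem ne_bot_left (h : IsRankOnePair A B) : A ≠ ⊥ := by
  intro hA
  have hB : B ≠ ⊥ := fun hB => h.ne (hA.trans hB.symm)
  obtain ⟨b, hb, hb1⟩ := exists_ne_one_of_ne_bot hB
  obtain ⟨a, ha, ha1, -⟩ := h.cond_right b hb hb1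
  rw [hA] at ha
  exact ha1 (by simpa using ha)

theorem ne_bot_right (h : IsRankOnePair A B) : B ≠ ⊥ := ne_bot_left (RankOnePair_symm h)

theorem exists_ne_one_left (h : IsRankOnePair A B) : ∃ a ∈ A, a ≠ 1 :=
  exists_ne_one_of_ne_bot (ne_bot_left h)

theorem exists_ne_one_right (h : IsRankOnePair A B) : ∃ b ∈ B, b ≠ 1 :=
  exists_ne_one_left (RankOnePair_symm h)

end RankOne

end Cfsg.Agent.Lib.Helper85
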