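import Cfsg.Agent.Lib.Helper85.RankOneNormal

set_option autoImplicit false

namespace Cfsg.Agent.Lib.Helper85

open Cfsg

variable {G : Type*} [Group G]

theorem isNilpotent_conjBy {A : Subgroup G} (h : Group.IsNilpotent A) (g : G) :
    Group.IsNilpotent (conjBy A g) :=
  Group.nilpotent_of_mulEquiv
    (A.equivMapOfInjective (MulAut.conj g).toMonoidHom (MulAut.conj g).injective)

theorem isMulCommutative_conjBy {A : Subgroup G} (h : IsMulCommutative A) (g : G) :
    IsMulCommutative (conjBy A g) := by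
  refine ⟨⟨?_⟩⟩
  rintro ⟨x, hx⟩ ⟨y, hy⟩
  rw [mem_conjBy] at hx hy
  have := h.is_comm.comm ⟨_, hx⟩ ⟨_, hy⟩
  have h1 : (g⁻¹ * x * g) * (g⁻¹ * y * g) = (g⁻¹ * y * g) * (g⁻¹ * x * g) :=
    congrArg Subtype.val this
  apply Subtype.ext
  change x * y = y * x
  have h2 : x * y = g * ((g⁻¹ * x * g) * (g⁻¹ * y * g)) * g⁻¹ := by group
  rw [h2, h1]; group

theorem comm_of_isMulCommutative {A : Subgroup G} (h : IsMulCommutative A) {x y : G}
    (hx : x ∈ A) (hy : y ∈ A) : x * y = y * x :=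
  congrArg Subtype.val (h.is_comm.comm ⟨x, hx⟩ ⟨y, hy⟩)

theorem commutator_eq_bot_iff {A B : Subgroup G} :
    ⁅A, B⁆ = ⊥ ↔ ∀ a ∈ A, ∀ b ∈ B, a * b = b * a := by
  rw [Subgroup.commutator_eq_bot_iff_le_centralizer]
  constructor
  · intro h a ha b hb
    exact (Subgroup.mem_centralizer_iff.1 (h ha) b hb).symm
  · intro h a ha
    rw [Subgroup.mem_centralizer_iff]
    intro b hb
    exact (h a ha b hb).symm

theorem conjBy_commutator (A B : Subgroup G) (g : G) :
    conjBy ⁅A, B⁆ g = ⁅conjBy A g, conjBy B g⁆ :=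
  Subgroup.map_commutator A B _

theorem conjBy_normalizer (A : Subgroup G) (g : G) :
    conjBy (Subgroup.normalizer (A : Set G)) g = Subgroup.normalizer (conjBy A g : Set G) := by
  ext x
  rw [mem_conjBy, ← conjBy_eq_self_iff, ← conjBy_eq_self_iff, conjBy_conjBy]
  constructor
  · intro h
    have : conjBy (conjBy A (g⁻¹ * x * g)) g = conjBy A g := by rw [h]
    rw [conjBy_conjBy] at this
    rw [← this]; congr 1; group
  · intro h
    have : conjBy (conjBy A (x * g)) g⁻¹ = conjBy (conjBy A g) g⁻¹ := by rw [h]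
    rw [conjBy_conjBy, conjBy_conjBy] at this
    simp only [inv_mul_cancel, conjBy_one] at this
    rw [← this]; congr 1; group

namespace RankOne

variable {A B : Subgroup G}

theorem conj (h : IsRankOnePair A B) (g : G) : IsRankOnePair (conjBy A g) (conjBy B g) := by
  have key : ∀ {A B : Subgroup G}, RankOneCondition A B →
      RankOneCondition (conjBy A g) (conjBy B g) := by
    intro A B hc x hx hx1
    rw [mem_conjBy] at hx
    obtain ⟨b, hb, hb1, hAB⟩ := hc _ hx (by
      intro h1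
      apply hx1
      have : x = g * (g⁻¹ * x * g) * g⁻¹ := by group
      rw [this, h1]; group)
    refine ⟨g * b * g⁻¹, conj_mem_conjBy hb g, ?_, ?_⟩
    · intro h1
      apply hb1
      have : b = g⁻¹ * (g * b * g⁻¹) * g := by group
      rw [this, h1]; group
    · rw [conjBy_conjBy, conjBy_conjBy]
      have e1 : (g * b * g⁻¹)⁻¹ * g = g * b⁻¹ := by group
      have e2 : x⁻¹ * g = g * (g⁻¹ * x * g)⁻¹ := by group
      rw [e1, e2, ← conjBy_conjBy, ← conjBy_conjBy, hAB]
  exact ⟨fun he => h.ne (conjBy_inj.1 he), isNilpotent_conjBy h.nilpotent_left g,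
    isNilpotent_conjBy h.nilpotent_right g, key h.cond_left, key h.cond_right⟩

theorem pair_of_mem (h : IsRankOnePair A B) {C D : Subgroup G}
    (hC : C ∈ unipotentSubgroups A B) (hD : D ∈ unipotentSubgroups A B) (hne : C ≠ D) :
    IsRankOnePair C D ∧ C ⊔ D = A ⊔ B := by
  obtain ⟨x, hx, hx1, hx2⟩ := exists_to_standard h hC hD hne
  rw [conjBy_eq_iff] at hx1 hx2
  rw [hx1, hx2]
  refine ⟨conj h _, ?_⟩
  rw [← conjBy_sup]
  exact conjBy_of_mem (inv_mem hx)

theorem inf_eq_bot (h : IsRankOnePair A B) : A ⊓ B = ⊥ := by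
  rw [eq_bot_iff, ← inf_normalizer h]
  exact inf_le_inf_left A Subgroup.le_normalizer

theorem inf_eq_bot_of_mem (h : IsRankOnePair A B) {C D : Subgroup G}
    (hC : C ∈ unipotentSubgroups A B) (hD : D ∈ unipotentSubgroups A B) (hne : C ≠ D) :
    C ⊓ D = ⊥ := inf_eq_bot (pair_of_mem h hC hD hne).1

theorem not_left_le_normalizer (h : IsRankOnePair A B) :
    ¬ A ≤ Subgroup.normalizer (B : Set G) := not_right_le_normalizer (RankOnePair_symm h)

theorem commutator_ne_bot (h : IsRankOnePair A B) : ⁅A, B⁆ ≠ ⊥ := by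
  intro he
  rw [Subgroup.commutator_eq_bot_iff_le_centralizer] at he
  exact not_left_le_normalizer h (he.trans (Subgroup.centralizer_le_normalizer _))

/-- for `x ∈ A` nontrivial the conjugate `x B x⁻¹` does not normalize `B` -/
theorem conj_not_le_normalizer (h : IsRankOnePair A B) {x : G} (hx : x ∈ A) (hx1 : x ≠ 1) :
    ¬ conjBy B x ≤ Subgroup.normalizer (B : Set G) := by
  intro hle
  obtain ⟨b, hb, -, hAB⟩ := h.cond_left x⁻¹ (inv_mem hx) (by simpa using hx1)
  rw [inv_inv] at hAB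
  rw [← hAB] at hle
  apply not_left_le_normalizer h
  have h1 := conjBy_mono hle b
  rw [conjBy_conjBy, mul_inv_cancel, conjBy_one, conjBy_normalizer, conjBy_of_mem hb] at h1
  exact h1

theorem conjBy_left_ne (h : IsRankOnePair A B) {b : G} (hb : b ∈ B) (hb1 : b ≠ 1) :
    conjBy A b ≠ A := by
  intro he
  exact hb1 (eq_one_of_normalizes (RankOnePair_symm h) hb (conjBy_eq_self_iff.1 he))

theorem conjBy_left_mem {x : G} (hx : x ∈ A ⊔ B) :
    conjBy A x ∈ unipotentSubgroups A B := ⟨x, hx, rfl⟩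

theorem unipotent_symm (h : IsRankOnePair A B) :
    unipotentSubgroups B A = unipotentSubgroups A B := by
  obtain ⟨y, hy, hBy⟩ := right_mem_unipotent h
  ext C
  constructor
  · rintro ⟨x, hx, rfl⟩
    rw [sup_comm] at hx
    exact conjBy_mem_unipotent (right_mem_unipotent h) hx
  · rintro ⟨x, hx, rfl⟩
    refine ⟨x * y⁻¹, ?_, ?_⟩
    · rw [sup_comm]; exact mul_mem hx (inv_mem hy)
    · rw [hBy, conjBy_conjBy]; simp

end RankOne

end Cfsg.Agent.Lib.Helper85
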