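import Cfsg.Agent.Lib.Helper85.RankOneOmega

set_option autoImplicit false

namespace Cfsg.Agent.Lib.Helper85

open Cfsg
open scoped commutatorElement

variable {G : Type*} [Group G]

namespace RankOne

variable {A B : Subgroup G}

/-- an element commuting with all of `A` and all of `B` commutes with `A ⊔ B` -/
theorem commute_sup_of {n : G} (hA : ∀ a ∈ A, n * a = a * n) (hB : ∀ b ∈ B, n * b = b * n) :
    ∀ x ∈ A ⊔ B, n * x = x * n := by
  have h1 : A ≤ Subgroup.centralizer ({n} : Set G) := by
    intro a ha
    rw [Subgroup.mem_centralizer_iff]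
    intro y hy
    rw [Set.mem_singleton_iff] at hy
    rw [hy]; exact hA a ha
  have h2 : B ≤ Subgroup.centralizer ({n} : Set G) := by
    intro a ha
    rw [Subgroup.mem_centralizer_iff]
    intro y hy
    rw [Set.mem_singleton_iff] at hy
    rw [hy]; exact hB a ha
  intro x hx
  have := (sup_le h1 h2) hx
  rw [Subgroup.mem_centralizer_iff] at this
  exact this n rfl

theorem normal_dichotomy (h : IsRankOnePair A B) {N : Subgroup G} (hN : N ≤ A ⊔ B)
    (hnorm : ∀ x ∈ A ⊔ B, ∀ n ∈ N, x * n * x⁻¹ ∈ N) :
    (∃ n ∈ N, B = conjBy A n) ∨ (∀ n ∈ N, ∀ x ∈ A ⊔ B, n * x = x * n) := by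
  by_cases hcase : ∀ C ∈ unipotentSubgroups A B, ∀ n ∈ N, conjBy C n = C
  · right
    intro n hn
    have hnA : n ∈ Subgroup.normalizer (A : Set G) :=
      conjBy_eq_self_iff.1 (hcase A (left_mem_unipotent _ _) n hn)
    have hnB : n ∈ Subgroup.normalizer (B : Set G) :=
      conjBy_eq_self_iff.1 (hcase B (right_mem_unipotent h) n hn)
    apply commute_sup_of
    · intro a ha
      have h1 : n * a * n⁻¹ * a⁻¹ ∈ A :=
        mul_mem ((Subgroup.mem_normalizer_iff.1 hnA a).1 ha) (inv_mem ha)
      have h2 : n * a * n⁻¹ * a⁻¹ ∈ N := by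
        have := mul_mem hn (hnorm a (Subgroup.mem_sup_left ha) n⁻¹ (inv_mem hn))
        simpa [mul_assoc] using this
      have h3 : n * a * n⁻¹ * a⁻¹ ∈ Subgroup.normalizer (B : Set G) :=
        conjBy_eq_self_iff.1 (hcase B (right_mem_unipotent h) _ h2)
      have h4 := eq_one_of_normalizes h h1 h3
      have h5 : n * a = (n * a * n⁻¹ * a⁻¹) * (a * n) := by group
      rw [h5, h4, one_mul]
    · intro b hb
      have h1 : n * b * n⁻¹ * b⁻¹ ∈ B :=
        mul_mem ((Subgroup.mem_normalizer_iff.1 hnB b).1 hb) (inv_mem hb)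
      have h2 : n * b * n⁻¹ * b⁻¹ ∈ N := by
        have := mul_mem hn (hnorm b (Subgroup.mem_sup_right hb) n⁻¹ (inv_mem hn))
        simpa [mul_assoc] using this
      have h3 : n * b * n⁻¹ * b⁻¹ ∈ Subgroup.normalizer (A : Set G) :=
        conjBy_eq_self_iff.1 (hcase A (left_mem_unipotent _ _) _ h2)
      have h4 := eq_one_of_normalizes (RankOnePair_symm h) h1 h3
      have h5 : n * b = (n * b * n⁻¹ * b⁻¹) * (b * n) := by group
      rw [h5, h4, one_mul]
  · left
    push Not at hcase
    obtain ⟨C, hC, n, hn, hne⟩ := hcase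
    obtain ⟨x, hx, hx1, hx2⟩ := exists_to_standard h hC
      (conjBy_mem_unipotent hC (hN hn)) (Ne.symm hne)
    refine ⟨x * n * x⁻¹, hnorm x hx n hn, ?_⟩
    rw [← hx2, ← hx1, conjBy_conjBy, conjBy_conjBy]
    congr 1
    group

/-- the rank one group is not normalizing `A` -/
theorem not_right_le_normalizer (h : IsRankOnePair A B) :
    ¬ B ≤ Subgroup.normalizer (A : Set G) := by
  intro hle
  have := inf_normalizer' h
  rw [inf_eq_left.2 hle] at this
  exact ne_bot_right h this

end RankOne

namespace RankOneGroup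

variable {X : Type*} [Group X] {A B : Subgroup X}

theorem normal_dichotomy (h : IsRankOneGroup X A B) (N : Subgroup X) (hN : N.Normal) :
    (∃ n ∈ N, B = conjBy A n) ∨ N ≤ Subgroup.center X := by
  rcases RankOne.normal_dichotomy h.2 (N := N) (by rw [h.1]; exact le_top)
    (fun x _ n hn => hN.conj_mem n hn x) with h1 | h1
  · exact Or.inl h1
  · right
    intro n hn
    rw [Subgroup.mem_center_iff]
    intro x
    exact (h1 n hn x (by rw [h.1]; trivial)).symm

theorem sup_eq_top_of_conj (h : IsRankOneGroup X A B) {N : Subgroup X}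
    (hn : ∃ n ∈ N, B = conjBy A n) : N ⊔ A = ⊤ := by
  obtain ⟨n, hn, hB⟩ := hn
  rw [eq_top_iff, ← h.1]
  refine sup_le le_sup_right ?_
  rw [hB]
  exact conjBy_le_of_mem le_sup_right (Subgroup.mem_sup_left hn)

theorem center_ne_top (h : IsRankOneGroup X A B) : Subgroup.center X ≠ ⊤ := by
  intro hc
  apply RankOne.not_right_le_normalizer h.2
  intro b _
  have hb : b ∈ Subgroup.center X := by rw [hc]; trivial
  rw [Subgroup.mem_normalizer_iff]
  intro a
  have : b * a * b⁻¹ = a := by
    rw [← Subgroup.mem_center_iff.1 hb a]; group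
  rw [this]

theorem upperCentralSeries_two (h : IsRankOneGroup X A B) :
    Subgroup.upperCentralSeries X 2 = Subgroup.center X := by
  apply le_antisymm
  · rcases normal_dichotomy h (Subgroup.upperCentralSeries X 2) inferInstance with h1 | h1
    · exfalso
      obtain ⟨n, hn, hB⟩ := h1
      apply RankOne.not_right_le_normalizer h.2
      intro b hb
      rw [hB, mem_conjBy] at hb
      -- b = n a n⁻¹ = [n,a] a
      set a := n⁻¹ * b * n with ha
      have hz : ⁅n, a⁆ ∈ Subgroup.center X := by
        have := Subgroup.mem_upperCentralSeries_succ_iff.1 hn a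
        rwa [Subgroup.upperCentralSeries_one] at this
      have hb' : b = ⁅n, a⁆ * a := by
        rw [commutatorElement_def, ha]; group
      rw [hb']
      refine mul_mem ?_ (Subgroup.le_normalizer hb)
      rw [Subgroup.mem_normalizer_iff]
      intro y
      have : ⁅n, a⁆ * y * ⁅n, a⁆⁻¹ = y := by
        rw [← Subgroup.mem_center_iff.1 hz y]; group
      rw [this]
    · exact h1
  · rw [← Subgroup.upperCentralSeries_one]
    exact Subgroup.upperCentralSeries_mono X (by norm_num)

theorem not_isNilpotent (h : IsRankOneGroup X A B) : ¬ Group.IsNilpotent X := by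
  intro hnil
  have h1 : Subgroup.upperCentralSeries X 1 = Subgroup.upperCentralSeries X 2 := by
    rw [upperCentralSeries_two h, Subgroup.upperCentralSeries_one]
  have h2 := Subgroup.upperCentralSeries.eq_top (G := X) (a := 1) (b := 2) (by norm_num) h1
  rw [Subgroup.upperCentralSeries_one] at h2
  exact center_ne_top h h2

theorem isQuasisimple_of_isPerfect (h : IsRankOneGroup X A B) (hp : Group.IsPerfect X) :
    IsQuasisimple X := by
  refine ⟨hp, ?_⟩
  have hnt : Nontrivial (X ⧸ Subgroup.center X) := by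
    by_contra hcon
    rw [not_nontrivial_iff_subsingleton] at hcon
    exact center_ne_top h (QuotientGroup.subsingleton_iff.1 hcon)
  refine { exists_pair_ne := hnt.exists_pair_ne, eq_bot_or_eq_top_of_normal := ?_ }
  intro H hH
  set N := H.comap (QuotientGroup.mk' (Subgroup.center X)) with hNdef
  have hNn : N.Normal := hH.comap _
  have hHN : H = N.map (QuotientGroup.mk' (Subgroup.center X)) := by
    rw [hNdef, Subgroup.map_comap_eq_self_of_surjective (QuotientGroup.mk'_surjective _)]
  rcases normal_dichotomy h N hNn with h1 | h1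
  · right
    have htop := sup_eq_top_of_conj h h1
    have hsurj : Function.Surjective ((QuotientGroup.mk' N).comp A.subtype) := by
      intro q
      obtain ⟨x, rfl⟩ := QuotientGroup.mk'_surjective N q
      have hx : x ∈ N ⊔ A := by rw [htop]; trivial
      rw [Subgroup.mem_sup_of_normal_left] at hx
      obtain ⟨n, hn, a, ha, rfl⟩ := hx
      refine ⟨⟨a, ha⟩, ?_⟩
      simp only [MonoidHom.comp_apply, Subgroup.subtype_apply, QuotientGroup.mk'_apply]
      rw [QuotientGroup.eq]
      have : a⁻¹ * (n * a) = a⁻¹ * n * a⁻¹⁻¹ := by group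
      rw [this]
      exact hNn.conj_mem n hn a⁻¹
    have := h.2.nilpotent_left
    have hnilq : Group.IsNilpotent (X ⧸ N) := Group.nilpotent_of_surjective _ hsurj
    have hsub : Subsingleton (X ⧸ N) := by
      by_contra hcon
      rw [not_subsingleton_iff_nontrivial] at hcon
      exact Group.IsPerfect.not_isNilpotent (X ⧸ N) hnilq
    have hNtop : N = ⊤ := QuotientGroup.subsingleton_iff.1 hsub
    rw [hHN, hNtop, Subgroup.map_top_of_surjective _ (QuotientGroup.mk'_surjective _)]
  · left
    rw [hHN, eq_bot_iff]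
    rintro _ ⟨n, hn, rfl⟩
    rw [Subgroup.mem_bot]
    exact (QuotientGroup.eq_one_iff n).2 (h1 hn)

end RankOneGroup

end Cfsg.Agent.Lib.Helper85
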