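import Cfsg.Agent.Lib.Helper85.RankOne

set_option autoImplicit false

namespace Cfsg.Agent.Lib.Helper85

open Cfsg

variable {G : Type*} [Group G]

namespace RankOne

variable {A B : Subgroup G}

theorem left_mem_unipotent (A B : Subgroup G) : A ∈ unipotentSubgroups A B :=
  ⟨1, one_mem _, (conjBy_one A).symm⟩

theorem right_mem_unipotent (h : IsRankOnePair A B) : B ∈ unipotentSubgroups A B := by
  obtain ⟨a, ha, ha1⟩ := exists_ne_one_left h
  obtain ⟨b, hb, -, hAB⟩ := h.cond_left a ha ha1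
  refine ⟨a * b⁻¹, ?_, ?_⟩
  · exact mul_mem (Subgroup.mem_sup_left ha) (Subgroup.mem_sup_right (inv_mem hb))
  · rw [← conjBy_conjBy, hAB, conjBy_conjBy]; simp [conjBy_one]

theorem conjBy_mem_unipotent {C : Subgroup G} (hC : C ∈ unipotentSubgroups A B) {x : G}
    (hx : x ∈ A ⊔ B) : conjBy C x ∈ unipotentSubgroups A B := by
  obtain ⟨y, hy, rfl⟩ := hC
  exact ⟨x * y, mul_mem hx hy, conjBy_conjBy _ _ _⟩

theorem conjBy_left_by_right (h : IsRankOnePair A B) {b : G} (hb : b ∈ B) :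
    conjBy A b = A ∨ ∃ a ∈ A, conjBy A b = conjBy B a := by
  by_cases hb1 : b = 1
  · left; rw [hb1, conjBy_one]
  · right
    obtain ⟨a, ha, -, hAB⟩ := h.cond_right b⁻¹ (inv_mem hb) (by simpa using hb1)
    exact ⟨a⁻¹, inv_mem ha, by rw [hAB, inv_inv]⟩

theorem delta_invariant (h : IsRankOnePair A B) {x : G} (hx : x ∈ A ⊔ B) :
    ∀ C : Subgroup G, (C = A ∨ ∃ a ∈ A, C = conjBy B a) →
      (conjBy C x = A ∨ ∃ a ∈ A, conjBy C x = conjBy B a) := by
  have key : ∀ x ∈ A ⊔ B, (∀ C : Subgroup G, (C = A ∨ ∃ a ∈ A, C = conjBy B a) →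
      (conjBy C x = A ∨ ∃ a ∈ A, conjBy C x = conjBy B a)) ∧
      (∀ C : Subgroup G, (C = A ∨ ∃ a ∈ A, C = conjBy B a) →
      (conjBy C x⁻¹ = A ∨ ∃ a ∈ A, conjBy C x⁻¹ = conjBy B a)) := by
    have hAcase : ∀ a' ∈ A, ∀ C : Subgroup G, (C = A ∨ ∃ a ∈ A, C = conjBy B a) →
      (conjBy C a' = A ∨ ∃ a ∈ A, conjBy C a' = conjBy B a) := by
      intro a' ha' C hC
      rcases hC with rfl | ⟨a, ha, rfl⟩
      · left; exact conjBy_of_mem ha'
      · right; exact ⟨a' * a, mul_mem ha' ha, conjBy_conjBy _ _ _⟩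
    have hBcase : ∀ b ∈ B, ∀ C : Subgroup G, (C = A ∨ ∃ a ∈ A, C = conjBy B a) →
      (conjBy C b = A ∨ ∃ a ∈ A, conjBy C b = conjBy B a) := by
      intro b hb C hC
      rcases hC with rfl | ⟨a, ha, rfl⟩
      · exact conjBy_left_by_right h hb
      · by_cases ha1 : a = 1
        · right
          refine ⟨1, one_mem _, ?_⟩
          rw [ha1, conjBy_one, conjBy_of_mem hb]
        · obtain ⟨b', hb', -, hAB⟩ := h.cond_left a⁻¹ (inv_mem ha) (by simpa using ha1)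
          rw [inv_inv] at hAB
          rw [← hAB, conjBy_conjBy]
          exact conjBy_left_by_right h (mul_mem hb (inv_mem hb'))
    intro x hx
    rw [Subgroup.sup_eq_closure] at hx
    induction hx using Subgroup.closure_induction with
    | mem x hx =>
      rcases hx with hx | hx
      · exact ⟨hAcase x hx, hAcase x⁻¹ (inv_mem hx)⟩
      · exact ⟨hBcase x hx, hBcase x⁻¹ (inv_mem hx)⟩
    | one =>
      refine ⟨fun C hC => ?_, fun C hC => ?_⟩
      · rw [conjBy_one]; exact hC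
      · rw [inv_one, conjBy_one]; exact hC
    | mul x y _ _ ihx ihy =>
      refine ⟨fun C hC => ?_, fun C hC => ?_⟩
      · rw [← conjBy_conjBy]; exact ihx.1 _ (ihy.1 C hC)
      · rw [mul_inv_rev, ← conjBy_conjBy]; exact ihy.2 _ (ihx.2 C hC)
    | inv x _ ih =>
      refine ⟨ih.2, ?_⟩
      rw [inv_inv]; exact ih.1
  exact (key x hx).1

theorem mem_unipotent_iff (h : IsRankOnePair A B) {C : Subgroup G} :
    C ∈ unipotentSubgroups A B ↔ C = A ∨ ∃ a ∈ A, C = conjBy B a := by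
  constructor
  · rintro ⟨x, hx, rfl⟩
    exact delta_invariant h hx A (Or.inl rfl)
  · rintro (rfl | ⟨a, ha, rfl⟩)
    · exact left_mem_unipotent _ _
    · exact conjBy_mem_unipotent (right_mem_unipotent h) (Subgroup.mem_sup_left ha)

theorem conjBy_right_ne_left (h : IsRankOnePair A B) {a : G} (ha : a ∈ A) : conjBy B a ≠ A := by
  intro he
  rw [conjBy_eq_iff, conjBy_of_mem (inv_mem ha)] at he
  exact h.ne he.symm

theorem exists_of_ne_left (h : IsRankOnePair A B) {C : Subgroup G}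
    (hC : C ∈ unipotentSubgroups A B) (hne : C ≠ A) : ∃ a ∈ A, C = conjBy B a := by
  rcases (mem_unipotent_iff h).1 hC with h1 | h1
  · exact absurd h1 hne
  · exact h1

theorem exists_to_standard (h : IsRankOnePair A B) {C₁ C₂ : Subgroup G}
    (h1 : C₁ ∈ unipotentSubgroups A B) (h2 : C₂ ∈ unipotentSubgroups A B) (hne : C₁ ≠ C₂) :
    ∃ x ∈ A ⊔ B, conjBy C₁ x = A ∧ conjBy C₂ x = B := by
  obtain ⟨y, hy, rfl⟩ := h1
  have h2' : conjBy C₂ y⁻¹ ∈ unipotentSubgroups A B := conjBy_mem_unipotent h2 (inv_mem hy)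
  have hne' : conjBy C₂ y⁻¹ ≠ A := by
    intro he
    rw [conjBy_eq_iff, inv_inv] at he
    exact hne he.symm
  obtain ⟨a, ha, hCa⟩ := exists_of_ne_left h h2' hne'
  refine ⟨a⁻¹ * y⁻¹, mul_mem (Subgroup.mem_sup_left (inv_mem ha)) (inv_mem hy), ?_, ?_⟩
  · rw [conjBy_conjBy]
    simpa [mul_assoc] using conjBy_of_mem (inv_mem ha)
  · rw [← conjBy_conjBy, hCa, conjBy_conjBy]; simp [conjBy_one]

theorem two_transitive (h : IsRankOnePair A B) {C₁ C₂ D₁ D₂ : Subgroup G}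
    (hC1 : C₁ ∈ unipotentSubgroups A B) (hC2 : C₂ ∈ unipotentSubgroups A B)
    (hD1 : D₁ ∈ unipotentSubgroups A B) (hD2 : D₂ ∈ unipotentSubgroups A B)
    (hC : C₁ ≠ C₂) (hD : D₁ ≠ D₂) :
    ∃ x ∈ A ⊔ B, conjBy C₁ x = D₁ ∧ conjBy C₂ x = D₂ := by
  obtain ⟨x, hx, hx1, hx2⟩ := exists_to_standard h hC1 hC2 hC
  obtain ⟨y, hy, hy1, hy2⟩ := exists_to_standard h hD1 hD2 hD
  refine ⟨y⁻¹ * x, mul_mem (inv_mem hy) hx, ?_, ?_⟩
  · rw [← conjBy_conjBy, hx1, ← hy1, conjBy_conjBy]; simp [conjBy_one]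
  · rw [← conjBy_conjBy, hx2, ← hy2, conjBy_conjBy]; simp [conjBy_one]

theorem regular (h : IsRankOnePair A B) {C D : Subgroup G}
    (hC : C ∈ unipotentSubgroups A B) (hD : D ∈ unipotentSubgroups A B)
    (hCA : C ≠ A) (hDA : D ≠ A) : ∃! a : G, a ∈ A ∧ conjBy C a = D := by
  obtain ⟨a, ha, rfl⟩ := exists_of_ne_left h hC hCA
  obtain ⟨a', ha', rfl⟩ := exists_of_ne_left h hD hDA
  refine ⟨a' * a⁻¹, ⟨mul_mem ha' (inv_mem ha), ?_⟩, ?_⟩
  · rw [conjBy_conjBy]; simp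
  · rintro c ⟨hc, hce⟩
    rw [conjBy_conjBy] at hce
    have := eq_of_conjBy_eq h (mul_mem hc ha) ha' hce
    rw [← this]; simp

theorem three_members (h : IsRankOnePair A B) :
    ∃ C₁ ∈ unipotentSubgroups A B, ∃ C₂ ∈ unipotentSubgroups A B,
      ∃ C₃ ∈ unipotentSubgroups A B, C₁ ≠ C₂ ∧ C₁ ≠ C₃ ∧ C₂ ≠ C₃ := by
  obtain ⟨a, ha, ha1⟩ := exists_ne_one_left h
  refine ⟨A, left_mem_unipotent _ _, B, right_mem_unipotent h, conjBy B a,
    conjBy_mem_unipotent (right_mem_unipotent h) (Subgroup.mem_sup_left ha), h.ne,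
    (conjBy_right_ne_left h ha).symm, ?_⟩
  intro he
  have : conjBy B 1 = conjBy B a := by rw [conjBy_one]; exact he
  exact ha1 (eq_of_conjBy_eq h (one_mem _) ha this).symm

end RankOne

end Cfsg.Agent.Lib.Helper85
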