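import Cfsg.Agent.Lib.Helper85.RootBasic

set_option autoImplicit false

namespace Cfsg.Agent.Lib.Helper85

open Cfsg

variable {G : Type*} [Group G]

theorem mem_normalizer_of_conj {N : Subgroup G} {g : G} (h1 : ∀ n ∈ N, g * n * g⁻¹ ∈ N)
    (h2 : ∀ n ∈ N, g⁻¹ * n * g⁻¹⁻¹ ∈ N) : g ∈ Subgroup.normalizer (N : Set G) := by
  rw [Subgroup.mem_normalizer_iff]
  intro n
  refine ⟨h1 n, fun h => ?_⟩
  have := h2 _ h
  have e : g⁻¹ * (g * n * g⁻¹) * g⁻¹⁻¹ = n := by group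
  rwa [e] at this

/-- `⁅A, B⁆` is normalized by `A ⊔ B`. -/
theorem sup_le_normalizer_commutator (A B : Subgroup G) :
    A ⊔ B ≤ Subgroup.normalizer ((⁅A, B⁆ : Subgroup G) : Set G) := by
  have hA : ∀ a' ∈ A, ∀ n ∈ ⁅A, B⁆, a' * n * a'⁻¹ ∈ ⁅A, B⁆ := by
    intro a' ha' n hn
    rw [Subgroup.commutator_def] at hn
    induction hn using Subgroup.closure_induction with
    | mem x hx =>
      obtain ⟨a, ha, b, hb, rfl⟩ := hx
      rw [commutatorElement_def]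
      have e : a' * (a * b * a⁻¹ * b⁻¹) * a'⁻¹
          = ((a' * a) * b * (a' * a)⁻¹ * b⁻¹) * (a' * b * a'⁻¹ * b⁻¹)⁻¹ := by group
      rw [e]
      exact mul_mem (Root.commElem_mem (mul_mem ha' ha) hb) (inv_mem (Root.commElem_mem ha' hb))
    | one => simp
    | mul x y _ _ hx hy =>
      have e : a' * (x * y) * a'⁻¹ = (a' * x * a'⁻¹) * (a' * y * a'⁻¹) := by group
      rw [e]; exact mul_mem hx hy
    | inv x _ hx =>
      have e : a' * x⁻¹ * a'⁻¹ = (a' * x * a'⁻¹)⁻¹ := by group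
      rw [e]; exact inv_mem hx
  have hB : ∀ b' ∈ B, ∀ n ∈ ⁅A, B⁆, b' * n * b'⁻¹ ∈ ⁅A, B⁆ := by
    intro b' hb' n hn
    rw [Subgroup.commutator_def] at hn
    induction hn using Subgroup.closure_induction with
    | mem x hx =>
      obtain ⟨a, ha, b, hb, rfl⟩ := hx
      rw [commutatorElement_def]
      have e : b' * (a * b * a⁻¹ * b⁻¹) * b'⁻¹
          = (a * b' * a⁻¹ * b'⁻¹)⁻¹ * (a * (b' * b) * a⁻¹ * (b' * b)⁻¹) := by group
      rw [e]
      exact mul_mem (inv_mem (Root.commElem_mem ha hb')) (Root.commElem_mem ha (mul_mem hb' hb))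
    | one => simp
    | mul x y _ _ hx hy =>
      have e : b' * (x * y) * b'⁻¹ = (b' * x * b'⁻¹) * (b' * y * b'⁻¹) := by group
      rw [e]; exact mul_mem hx hy
    | inv x _ hx =>
      have e : b' * x⁻¹ * b'⁻¹ = (b' * x * b'⁻¹)⁻¹ := by group
      rw [e]; exact inv_mem hx
  refine sup_le ?_ ?_
  · intro a ha
    exact mem_normalizer_of_conj (hA a ha) (hA _ (inv_mem ha))
  · intro b hb
    exact mem_normalizer_of_conj (hB b hb) (hB _ (inv_mem hb))

theorem commutator_le_sup (A B : Subgroup G) : ⁅A, B⁆ ≤ A ⊔ B := by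
  rw [Subgroup.commutator_le]
  intro a ha b hb
  rw [commutatorElement_def]
  exact mul_mem (mul_mem (mul_mem (Subgroup.mem_sup_left ha) (Subgroup.mem_sup_right hb))
    (Subgroup.mem_sup_left (inv_mem ha))) (Subgroup.mem_sup_right (inv_mem hb))

/-- elements of `A ⊔ N` when `A` and `N` commute elementwise -/
theorem mem_sup_of_commute {A N : Subgroup G} (h : ∀ a ∈ A, ∀ n ∈ N, a * n = n * a) {x : G} :
    x ∈ A ⊔ N ↔ ∃ a ∈ A, ∃ n ∈ N, x = a * n := by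
  constructor
  · intro hx
    rw [Subgroup.sup_eq_closure] at hx
    induction hx using Subgroup.closure_induction with
    | mem x hx =>
      rcases hx with hx | hx
      · exact ⟨x, hx, 1, one_mem _, by simp⟩
      · exact ⟨1, one_mem _, x, hx, by simp⟩
    | one => exact ⟨1, one_mem _, 1, one_mem _, by simp⟩
    | mul x y _ _ hx hy =>
      obtain ⟨a, ha, n, hn, rfl⟩ := hx
      obtain ⟨a', ha', n', hn', rfl⟩ := hy
      refine ⟨a * a', mul_mem ha ha', n * n', mul_mem hn hn', ?_⟩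
      calc a * n * (a' * n') = a * (n * a') * n' := by group
        _ = a * (a' * n) * n' := by rw [h a' ha' n hn]
        _ = a * a' * (n * n') := by group
    | inv x _ hx =>
      obtain ⟨a, ha, n, hn, rfl⟩ := hx
      refine ⟨a⁻¹, inv_mem ha, n⁻¹, inv_mem hn, ?_⟩
      rw [h a ha n hn]; group
  · rintro ⟨a, ha, n, hn, rfl⟩
    exact mul_mem (Subgroup.mem_sup_left ha) (Subgroup.mem_sup_right hn)

namespace Root

variable {S : Set (Subgroup G)}

/-- if `⁅A, B⁆ ∈ S` then `(A, B)` is not a rank one pair -/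
theorem not_rankOne_of_commutator_mem (hS : IsRootSubgroupSet S) {A B : Subgroup G} (hA : A ∈ S)
    (hN : ⁅A, B⁆ ∈ S) : ¬ IsRankOnePair A B := by
  intro h
  have hnorm : ∀ x ∈ A ⊔ B, ∀ n ∈ ⁅A, B⁆, x * n * x⁻¹ ∈ ⁅A, B⁆ := fun x hx n hn =>
    (Subgroup.mem_normalizer_iff.1 (sup_le_normalizer_commutator A B hx) n).1 hn
  rcases RankOne.normal_dichotomy h (commutator_le_sup A B) hnorm with h1 | h1
  · obtain ⟨n, hn, hBn⟩ := h1
    by_cases hr : IsRankOnePair ⁅A, B⁆ A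
    · exact RankOne.not_right_le_normalizer hr
        (le_sup_left.trans (sup_le_normalizer_commutator A B))
    · apply RankOne.not_right_le_normalizer h
      rw [hBn]
      exact conj_le_normalizer hS hN hA hr hn
  · obtain ⟨a, ha, ha1⟩ := RankOne.exists_ne_one_left h
    apply RankOne.conj_not_le_normalizer h ha ha1
    intro y hy
    rw [mem_conjBy] at hy
    have e : y = (a * (a⁻¹ * y * a) * a⁻¹ * (a⁻¹ * y * a)⁻¹) * (a⁻¹ * y * a) := by group
    rw [e]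
    refine mul_mem ?_ (Subgroup.le_normalizer hy)
    apply Subgroup.centralizer_le_normalizer
    rw [Subgroup.mem_centralizer_iff]
    intro b hb
    exact (h1 _ (commElem_mem ha hy) b (Subgroup.mem_sup_right hb)).symm

theorem commutatorCase_of_mem (hS : IsRootSubgroupSet S) {A B : Subgroup G} (hA : A ∈ S)
    (hB : B ∈ S) (hN : ⁅A, B⁆ ∈ S) : RootCommutatorCase S A B := by
  rcases hS.pair A hA B hB with h | h | h
  · exact absurd h (hS.ne_bot _ hN)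
  · exact absurd h (not_rankOne_of_commutator_mem hS hA hN)
  · exact h

namespace CommCase

variable {A B : Subgroup G}

theorem central (hc : RootCommutatorCase S A B) {a b : G} (ha : a ∈ A) (hb : b ∈ B) {x : G}
    (hx : x ∈ A ⊔ B) : (a * b * a⁻¹ * b⁻¹) * x = x * (a * b * a⁻¹ * b⁻¹) :=
  hc.2.1 _ (commElem_mem ha hb) x hx

theorem mul_right (hc : RootCommutatorCase S A B) {a b b' : G} (ha : a ∈ A) (hb : b ∈ B)
    (hb' : b' ∈ B) :
    a * (b * b') * a⁻¹ * (b * b')⁻¹ = (a * b * a⁻¹ * b⁻¹) * (a * b' * a⁻¹ * b'⁻¹) := by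
  have h := central hc ha hb' (x := b⁻¹) (Subgroup.mem_sup_right (inv_mem hb))
  calc a * (b * b') * a⁻¹ * (b * b')⁻¹ = a * b * a⁻¹ * ((a * b' * a⁻¹ * b'⁻¹) * b⁻¹) := by group
    _ = a * b * a⁻¹ * (b⁻¹ * (a * b' * a⁻¹ * b'⁻¹)) := by rw [h]
    _ = _ := by group

theorem mul_left (hc : RootCommutatorCase S A B) {a a' b : G} (ha : a ∈ A) (ha' : a' ∈ A)
    (hb : b ∈ B) :
    (a * a') * b * (a * a')⁻¹ * b⁻¹ = (a * b * a⁻¹ * b⁻¹) * (a' * b * a'⁻¹ * b⁻¹) := by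
  have h := central hc ha' hb (x := a⁻¹) (Subgroup.mem_sup_left (inv_mem ha))
  calc (a * a') * b * (a * a')⁻¹ * b⁻¹
      = a * ((a' * b * a'⁻¹ * b⁻¹) * (b * a⁻¹ * b⁻¹)) := by group
    _ = a * ((a' * b * a'⁻¹ * b⁻¹) * a⁻¹ * (a * b * a⁻¹ * b⁻¹)) := by group
    _ = a * (a⁻¹ * (a' * b * a'⁻¹ * b⁻¹) * (a * b * a⁻¹ * b⁻¹)) := by rw [h]
    _ = (a' * b * a'⁻¹ * b⁻¹) * (a * b * a⁻¹ * b⁻¹) := by group
    _ = _ := by
      have h2 := hc.2.1 _ (commElem_mem ha' hb) _ (commutator_le_sup A B (commElem_mem ha hb))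
      exact h2

theorem inv_right (hc : RootCommutatorCase S A B) {a b : G} (ha : a ∈ A) (hb : b ∈ B) :
    a * b⁻¹ * a⁻¹ * b⁻¹⁻¹ = (a * b * a⁻¹ * b⁻¹)⁻¹ := by
  have h := mul_right hc ha hb (inv_mem hb)
  rw [mul_inv_cancel] at h
  have h1 : (1 : G) = (a * b * a⁻¹ * b⁻¹) * (a * b⁻¹ * a⁻¹ * b⁻¹⁻¹) := by
    rw [← h]; group
  exact (inv_eq_of_mul_eq_one_right h1.symm).symm

theorem inv_left (hc : RootCommutatorCase S A B) {a b : G} (ha : a ∈ A) (hb : b ∈ B) :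
    a⁻¹ * b * a⁻¹⁻¹ * b⁻¹ = (a * b * a⁻¹ * b⁻¹)⁻¹ := by
  have h := mul_left hc ha (inv_mem ha) hb
  rw [mul_inv_cancel] at h
  have h1 : (1 : G) = (a * b * a⁻¹ * b⁻¹) * (a⁻¹ * b * a⁻¹⁻¹ * b⁻¹) := by
    rw [← h]; group
  exact (inv_eq_of_mul_eq_one_right h1.symm).symm

theorem exists_right (hc : RootCommutatorCase S A B) {a : G} (ha : a ∈ A) (ha1 : a ≠ 1) {n : G}
    (hn : n ∈ ⁅A, B⁆) : ∃ b ∈ B, a * b * a⁻¹ * b⁻¹ = n := by
  rw [← hc.2.2.1 a ha ha1] at hn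
  induction hn using Subgroup.closure_induction with
  | mem x hx =>
    obtain ⟨b, hb, rfl⟩ := hx
    exact ⟨b, hb, rfl⟩
  | one => exact ⟨1, one_mem _, by group⟩
  | mul x y _ _ hx hy =>
    obtain ⟨b, hb, rfl⟩ := hx
    obtain ⟨b', hb', rfl⟩ := hy
    exact ⟨b * b', mul_mem hb hb', mul_right hc ha hb hb'⟩
  | inv x _ hx =>
    obtain ⟨b, hb, rfl⟩ := hx
    exact ⟨b⁻¹, inv_mem hb, inv_right hc ha hb⟩

theorem exists_left (hc : RootCommutatorCase S A B) {b : G} (hb : b ∈ B) (hb1 : b ≠ 1) {n : G}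
    (hn : n ∈ ⁅A, B⁆) : ∃ a ∈ A, a * b * a⁻¹ * b⁻¹ = n := by
  rw [← hc.2.2.2 b hb hb1] at hn
  induction hn using Subgroup.closure_induction with
  | mem x hx =>
    obtain ⟨a, ha, rfl⟩ := hx
    exact ⟨a, ha, rfl⟩
  | one => exact ⟨1, one_mem _, by group⟩
  | mul x y _ _ hx hy =>
    obtain ⟨a, ha, rfl⟩ := hx
    obtain ⟨a', ha', rfl⟩ := hy
    exact ⟨a * a', mul_mem ha ha', mul_left hc ha ha' hb⟩
  | inv x _ hx =>
    obtain ⟨a, ha, rfl⟩ := hx
    exact ⟨a⁻¹, inv_mem ha, inv_left hc ha hb⟩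

theorem comm_left (hc : RootCommutatorCase S A B) {a n : G} (ha : a ∈ A) (hn : n ∈ ⁅A, B⁆) :
    a * n = n * a := (hc.2.1 n hn a (Subgroup.mem_sup_left ha)).symm

theorem comm_right (hc : RootCommutatorCase S A B) {b n : G} (hb : b ∈ B) (hn : n ∈ ⁅A, B⁆) :
    b * n = n * b := (hc.2.1 n hn b (Subgroup.mem_sup_right hb)).symm

theorem ne_left (hS : IsRootSubgroupSet S) (hc : RootCommutatorCase S A B) : A ≠ ⁅A, B⁆ := by
  intro he
  apply hS.ne_bot _ hc.1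
  rw [commutator_eq_bot_iff]
  intro a ha b hb
  rw [he] at ha
  exact hc.2.1 a ha b (Subgroup.mem_sup_right hb)

/-- with a rank one partner for `A`: nontrivial `a ∈ A`, `b ∈ B` never commute -/
theorem not_commute (hS : IsRootSubgroupSet S) (hc : RootCommutatorCase S A B) (hA : A ∈ S)
    {D : Subgroup G} (hD : D ∈ S) (hAD : IsRankOnePair A D) {a b : G} (ha : a ∈ A) (ha1 : a ≠ 1)
    (hb : b ∈ B) (hb1 : b ≠ 1) : a * b ≠ b * a := by
  intro hab
  have h1 : a ∈ conjBy A b := by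
    rw [mem_conjBy]
    have : b⁻¹ * a * b = a := by rw [mul_assoc, hab]; group
    rw [this]; exact ha
  have h2 : A = conjBy A b := eq_of_mem_of_mem hS hD (hS.conj_mem A hA b) hAD ha h1 ha1
  have h3 : ⁅A, B⁆ ≤ A := by
    rw [← hc.2.2.2 b hb hb1, Subgroup.closure_le]
    rintro _ ⟨a', ha', rfl⟩
    have h4 : b * a'⁻¹ * b⁻¹ ∈ conjBy A b := conj_mem_conjBy (inv_mem ha') b
    rw [← h2] at h4
    have := mul_mem ha' h4
    simpa [mul_assoc] using this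
  obtain ⟨x, hx, hx1⟩ := exists_ne_one_of_ne_bot (hS.ne_bot _ hc.1)
  exact ne_left hS hc (eq_of_mem_of_mem hS hD hc.1 hAD (h3 hx) hx hx1)

theorem symm (hc : RootCommutatorCase S A B) : RootCommutatorCase S B A := by
  have hcomm : ⁅B, A⁆ = ⁅A, B⁆ := Subgroup.commutator_comm B A
  refine ⟨hcomm ▸ hc.1, ?_, ?_, ?_⟩
  · intro c hc' x hx
    rw [hcomm] at hc'
    rw [sup_comm] at hx
    exact hc.2.1 c hc' x hx
  · intro b hb hb1
    rw [hcomm, ← hc.2.2.2 b hb hb1]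
    apply le_antisymm
    · rw [Subgroup.closure_le]
      rintro _ ⟨a, ha, rfl⟩
      have e : b * a * b⁻¹ * a⁻¹ = (a * b * a⁻¹ * b⁻¹)⁻¹ := by group
      change b * a * b⁻¹ * a⁻¹ ∈ _
      rw [e]
      exact inv_mem (Subgroup.subset_closure ⟨a, ha, rfl⟩)
    · rw [Subgroup.closure_le]
      rintro _ ⟨a, ha, rfl⟩
      have e : a * b * a⁻¹ * b⁻¹ = (b * a * b⁻¹ * a⁻¹)⁻¹ := by group
      change a * b * a⁻¹ * b⁻¹ ∈ _
      rw [e]
      exact inv_mem (Subgroup.subset_closure ⟨a, ha, rfl⟩)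
  · intro a ha ha1
    rw [hcomm, ← hc.2.2.1 a ha ha1]
    apply le_antisymm
    · rw [Subgroup.closure_le]
      rintro _ ⟨b, hb, rfl⟩
      have e : b * a * b⁻¹ * a⁻¹ = (a * b * a⁻¹ * b⁻¹)⁻¹ := by group
      change b * a * b⁻¹ * a⁻¹ ∈ _
      rw [e]
      exact inv_mem (Subgroup.subset_closure ⟨b, hb, rfl⟩)
    · rw [Subgroup.closure_le]
      rintro _ ⟨b, hb, rfl⟩
      have e : a * b * a⁻¹ * b⁻¹ = (b * a * b⁻¹ * a⁻¹)⁻¹ := by group
      change a * b * a⁻¹ * b⁻¹ ∈ _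
      rw [e]
      exact inv_mem (Subgroup.subset_closure ⟨b, hb, rfl⟩)

end CommCase

end Root

end Cfsg.Agent.Lib.Helper85
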